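import Mathlib.RingTheory.DividedPowers.DPMorphism
import Mathlib.Algebra.MvPolynomial.CommRing
import Mathlib.Algebra.MvPolynomial.Eval
import Mathlib.RingTheory.Ideal.Quotient.Operations

/-!
# Divided power envelopes
-/

noncomputable section

namespace Groth.Agent.H1DpEnv

universe u

variable {A B : Type u} [CommRing A] [CommRing B] [Algebra A B] {I : Ideal A} (γ : DividedPowers I) (J : Ideal B)

/-- A divided power ring receiving `(B, J)`. -/
structure Data where
  C : Type u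
  [inst : CommRing C]
  ψ : B →+* C
  K : Ideal C
  δ : DividedPowers K
  hψ : J.map ψ ≤ K
  hγ : γ.IsDPMorphism δ (ψ.comp (algebraMap A B))

attribute [instance] Data.inst

/-- Generators: elements of `B` and divided powers of elements of `J`. -/
abbrev Pol : Type u := MvPolynomial (B ⊕ (J × ℕ)) ℤ

/-- Evaluation at a test datum. -/
def ev (d : Data γ J) : Pol J →+* d.C :=
  MvPolynomial.eval₂Hom (Int.castRingHom _) (Sum.elim d.ψ fun p => d.δ.dpow p.2 (d.ψ (p.1 : B)))

/-- The relations holding in all test data. -/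
def rel : Ideal (Pol J) := ⨅ d : Data γ J, RingHom.ker (ev γ J d)

/-- The envelope. -/
abbrev Env : Type u := Pol J ⧸ rel γ J

/-- Evaluation of the envelope. -/
def evD (d : Data γ J) : Env γ J →+* d.C :=
  Ideal.Quotient.lift _ (ev γ J d) fun _ hx => Ideal.mem_iInf.1 hx d

theorem evD_mk (d : Data γ J) (p : Pol J) : evD γ J d (Ideal.Quotient.mk _ p) = ev γ J d p := rfl

theorem env_ext {x y : Env γ J} (h : ∀ d : Data γ J, evD γ J d x = evD γ J d y) : x = y := by
  obtain ⟨p, rfl⟩ := Ideal.Quotient.mk_surjective x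
  obtain ⟨q, rfl⟩ := Ideal.Quotient.mk_surjective y
  refine Ideal.Quotient.eq.2 (Ideal.mem_iInf.2 fun d => ?_)
  rw [RingHom.mem_ker, map_sub, sub_eq_zero]
  exact h d

theorem evD_inl (d : Data γ J) (b : B) :
    evD γ J d (Ideal.Quotient.mk _ (MvPolynomial.X (Sum.inl b))) = d.ψ b := by
  rw [evD_mk, ev, MvPolynomial.eval₂Hom_X']
  rfl

/-- The structure map. -/
def toEnv : B →+* Env γ J where
  toFun b := Ideal.Quotient.mk _ (MvPolynomial.X (Sum.inl b))
  map_one' := env_ext γ J fun d => by rw [evD_inl, map_one, map_one]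
  map_mul' a b := env_ext γ J fun d => by rw [map_mul (evD γ J d), evD_inl, evD_inl, evD_inl, map_mul]
  map_zero' := env_ext γ J fun d => by rw [evD_inl, map_zero, map_zero]
  map_add' a b := env_ext γ J fun d => by rw [map_add (evD γ J d), evD_inl, evD_inl, evD_inl, map_add]

theorem evD_toEnv (d : Data γ J) (b : B) : evD γ J d (toEnv γ J b) = d.ψ b := evD_inl γ J d b

/-- The divided powers of generators. -/
def gen (j : J) (n : ℕ) : Env γ J := Ideal.Quotient.mk _ (MvPolynomial.X (Sum.inr (j, n)))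

theorem evD_gen (d : Data γ J) (j : J) (n : ℕ) : evD γ J d (gen γ J j n) = d.δ.dpow n (d.ψ (j : B)) := by
  rw [gen, evD_mk, ev, MvPolynomial.eval₂Hom_X']
  rfl

/-- The divided power ideal. -/
def envIdeal : Ideal (Env γ J) := Ideal.span {z | ∃ (j : J) (n : ℕ), n ≠ 0 ∧ z = gen γ J j n}

theorem mem_K (d : Data γ J) (j : J) : d.ψ (j : B) ∈ d.K := d.hψ (Ideal.mem_map_of_mem _ j.2)

theorem evD_mem (d : Data γ J) {x : Env γ J} (hx : x ∈ envIdeal γ J) : evD γ J d x ∈ d.K := by
  have h : envIdeal γ J ≤ d.K.comap (evD γ J d) := Ideal.span_le.2 (by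
    rintro _ ⟨j, n, hn, rfl⟩
    show evD γ J d _ ∈ d.K
    rw [evD_gen]
    exact d.δ.dpow_mem hn (mem_K γ J d j))
  exact h hx

theorem exists_dpow {x : Env γ J} (hx : x ∈ envIdeal γ J) : ∀ m : ℕ, ∃ z : Env γ J,
    (m ≠ 0 → z ∈ envIdeal γ J) ∧ ∀ d : Data γ J, evD γ J d z = d.δ.dpow m (evD γ J d x) := by
  classical
  induction hx using Submodule.span_induction with
  | mem z hz =>
    obtain ⟨j, n, hn, rfl⟩ := hz
    intro m
    refine ⟨(Nat.uniformBell m n : Env γ J) * gen γ J j (m * n), fun hm => ?_, fun d => ?_⟩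
    · exact Ideal.mul_mem_left _ _ (Ideal.subset_span ⟨j, m * n, mul_ne_zero hm hn, rfl⟩)
    · rw [map_mul, map_natCast, evD_gen, evD_gen, d.δ.dpow_comp hn (mem_K γ J d j)]
  | zero =>
    intro m
    refine ⟨if m = 0 then 1 else 0, fun hm => by rw [if_neg hm]; exact zero_mem _, fun d => ?_⟩
    rcases eq_or_ne m 0 with rfl | hm
    · rw [if_pos rfl, map_one, map_zero, d.δ.dpow_zero (zero_mem _)]
    · rw [if_neg hm, map_zero, d.δ.dpow_eval_zero hm]
  | add a b ha hb iha ihb =>
    choose f hf hf' using iha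
    choose g hg hg' using ihb
    intro m
    refine ⟨∑ k ∈ Finset.antidiagonal m, f k.1 * g k.2, fun hm => sum_mem fun k hk => ?_, fun d => ?_⟩
    · rw [Finset.mem_antidiagonal] at hk
      rcases eq_or_ne k.1 0 with h | h
      · exact Ideal.mul_mem_left _ _ (hg _ (by omega))
      · exact Ideal.mul_mem_right _ _ (hf _ h)
    · rw [map_sum, map_add, d.δ.dpow_add (evD_mem γ J d ha) (evD_mem γ J d hb)]
      exact Finset.sum_congr rfl fun k _ => by rw [map_mul, hf', hg']
  | smul a x hx ih =>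
    intro m
    obtain ⟨f, hf, hf'⟩ := ih m
    refine ⟨a ^ m * f, fun hm => Ideal.mul_mem_left _ _ (hf hm), fun d => ?_⟩
    rw [smul_eq_mul, map_mul (evD γ J d) a x, map_mul, map_pow, hf', d.δ.dpow_mul (evD_mem γ J d hx)]

open scoped Classical in
/-- The divided power operations. -/
def dp (m : ℕ) (x : Env γ J) : Env γ J :=
  if h : x ∈ envIdeal γ J then (exists_dpow γ J h m).choose else 0

theorem dp_mem {m : ℕ} {x : Env γ J} (hm : m ≠ 0) (hx : x ∈ envIdeal γ J) : dp γ J m x ∈ envIdeal γ J := by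
  rw [dp, dif_pos hx]
  exact (exists_dpow γ J hx m).choose_spec.1 hm

theorem evD_dp (d : Data γ J) (m : ℕ) {x : Env γ J} (hx : x ∈ envIdeal γ J) :
    evD γ J d (dp γ J m x) = d.δ.dpow m (evD γ J d x) := by
  rw [dp, dif_pos hx]
  exact (exists_dpow γ J hx m).choose_spec.2 d

/-- The divided power structure of the envelope. -/
def envDP : DividedPowers (envIdeal γ J) where
  dpow := dp γ J
  dpow_null hx := by rw [dp, dif_neg hx]
  dpow_zero hx := env_ext γ J fun d => by rw [evD_dp γ J d 0 hx, map_one, d.δ.dpow_zero (evD_mem γ J d hx)]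
  dpow_one hx := env_ext γ J fun d => by rw [evD_dp γ J d 1 hx, d.δ.dpow_one (evD_mem γ J d hx)]
  dpow_mem hn hx := dp_mem γ J hn hx
  dpow_add {n x y} hx hy := env_ext γ J fun d => by
    rw [evD_dp γ J d n (Ideal.add_mem _ hx hy), map_add, map_sum,
      d.δ.dpow_add (evD_mem γ J d hx) (evD_mem γ J d hy)]
    exact Finset.sum_congr rfl fun k _ => by rw [map_mul, evD_dp γ J d _ hx, evD_dp γ J d _ hy]
  dpow_mul {n a x} hx := env_ext γ J fun d => by
    rw [evD_dp γ J d n (Ideal.mul_mem_left _ a hx), map_mul, map_mul, map_pow, evD_dp γ J d n hx,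
      d.δ.dpow_mul (evD_mem γ J d hx)]
  mul_dpow {m n x} hx := env_ext γ J fun d => by
    rw [map_mul, map_mul, map_natCast, evD_dp γ J d _ hx, evD_dp γ J d _ hx, evD_dp γ J d _ hx,
      d.δ.mul_dpow (evD_mem γ J d hx)]
  dpow_comp {m n x} hn hx := env_ext γ J fun d => by
    rw [evD_dp γ J d m (dp_mem γ J hn hx), map_mul, map_natCast, evD_dp γ J d _ hx, evD_dp γ J d _ hx,
      d.δ.dpow_comp hn (evD_mem γ J d hx)]

theorem toEnv_mem {b : B} (hb : b ∈ J) : toEnv γ J b ∈ envIdeal γ J :=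
  Ideal.subset_span ⟨⟨b, hb⟩, 1, one_ne_zero, env_ext γ J fun d => by
    rw [evD_toEnv, evD_gen, d.δ.dpow_one (mem_K γ J d ⟨b, hb⟩)]⟩

theorem gen_eq (j : J) (n : ℕ) : gen γ J j n = dp γ J n (toEnv γ J (j : B)) :=
  env_ext γ J fun d => by rw [evD_gen, evD_dp γ J d n (toEnv_mem γ J j.2), evD_toEnv]

theorem isDPMorphism_toEnv (hIJ : I.map (algebraMap A B) ≤ J) :
    γ.IsDPMorphism (envDP γ J) ((toEnv γ J).comp (algebraMap A B)) where
  ideal_comp := Ideal.map_le_iff_le_comap.2 fun _ ha => toEnv_mem γ J (hIJ (Ideal.mem_map_of_mem _ ha))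
  dpow_comp := fun {n} a ha => env_ext γ J fun d => by
    show evD γ J d (dp γ J n (toEnv γ J (algebraMap A B a))) = evD γ J d (toEnv γ J (algebraMap A B (γ.dpow n a)))
    rw [evD_dp γ J d n (toEnv_mem γ J (hIJ (Ideal.mem_map_of_mem _ ha))), evD_toEnv, evD_toEnv]
    exact d.hγ.dpow_comp a ha

theorem evD_unique (d : Data γ J) (χ : Env γ J →+* d.C) (h1 : χ.comp (toEnv γ J) = d.ψ)
    (h2 : (envDP γ J).IsDPMorphism d.δ χ) : χ = evD γ J d := by
  refine Ideal.Quotient.ringHom_ext (MvPolynomial.ringHom_ext (fun r => ?_) fun v => ?_)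
  · exact RingHom.congr_fun (RingHom.ext_int ((χ.comp (Ideal.Quotient.mk _)).comp MvPolynomial.C)
      (((evD γ J d).comp (Ideal.Quotient.mk _)).comp MvPolynomial.C)) r
  · rcases v with b | ⟨j, n⟩
    · show χ (toEnv γ J b) = evD γ J d (toEnv γ J b)
      rw [evD_toEnv, ← h1]
      rfl
    · show χ (gen γ J j n) = evD γ J d (gen γ J j n)
      rw [evD_gen, gen_eq, ← h1]
      exact (h2.dpow_comp (toEnv γ J (j : B)) (toEnv_mem γ J j.2)).symm

end Groth.Agent.H1DpEnv
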